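import Cfsg.Agent.Lib.HeldType.Sides.Defs

/-!
# The two sides: one of the checks
-/

set_option autoImplicit false
set_option maxRecDepth 100000

namespace Cfsg.Lib.HeldType

theorem glueB : sideB.glueOK = true := by decide +kernel

end Cfsg.Lib.HeldType
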