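import Cfsg.Agent.Lib.HeldType.Normal

/-!
# The two sides: data and the fused classes
-/

set_option autoImplicit false
set_option maxRecDepth 100000

namespace Cfsg.Lib.HeldType

/-- The side of the first subgroup. -/
def sideA : Side where
  dec := decA
  cls := clsA
  zi := 8
  bs := [1, 2, 4, 16, 32]
  idx := [2, 4, 8, 1, 16, 32]
  hList := [[1, 2, 4, 8, 16, 32], [1, 2, 5, 8, 16, 40], [1, 2, 6, 8, 16, 48], [1, 2, 7, 8, 16, 56], [1, 3, 4, 8, 24, 32], [1, 3, 5, 8, 24, 40], [1, 3, 6, 8, 24, 48], [1, 3, 7, 8, 24, 56], [1, 4, 2, 8, 32, 16], [1, 4, 3, 8, 32, 24], [1, 4, 6, 8, 32, 48], [1, 4, 7, 8, 32, 56], [1, 5, 2, 8, 40, 16], [1, 5, 3, 8, 40, 24], [1, 5, 6, 8, 40, 48], [1, 5, 7, 8, 40, 56], [1, 6, 2, 8, 48, 16], [1, 6, 3, 8, 48, 24], [1, 6, 4, 8, 48, 32], [1, 6, 5, 8, 48, 40], [1, 7, 2, 8, 56, 16], [1, 7, 3, 8, 56, 24], [1, 7, 4,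 8, 56, 32], [1, 7, 5, 8, 56, 40], [9, 18, 36, 8, 16, 32], [9, 18, 45, 8, 16, 40], [9, 18, 54, 8, 16, 48], [9, 18, 63, 8, 16, 56], [9, 27, 36, 8, 24, 32], [9, 27, 45, 8, 24, 40], [9, 27, 54, 8, 24, 48], [9, 27, 63, 8, 24, 56], [9, 36, 18, 8, 32, 16], [9, 36, 27, 8, 32, 24], [9, 36, 54, 8, 32, 48], [9, 36, 63, 8, 32, 56], [9, 45, 18, 8, 40, 16], [9, 45, 27, 8, 40, 24], [9, 45, 54, 8, 40, 48], [9, 45, 63, 8, 40, 56], [9, 54, 18, 8, 48, 16], [9, 54, 27, 8, 48, 24], [9, 54, 36, 8, 48, 32], [9, 54, 45, 8, 48, 40], [9, 63, 18, 8, 56, 16], [9, 63, 27, 8, 56, 24], [9, 63, 36, 8, 56, 32], [9, 63, 45, 8, 56, 40]]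
  pWit := [34944, 34976, 35968, 36000, 34960, 34992, 36016, 35984, 34048, 34064, 34176, 34192, 34080, 34096, 34224, 34208, 36096, 36144, 35200, 35248, 36128, 36112, 35216, 35232, 34952, 34984, 35976, 36008, 34968, 35000, 36024, 35992, 34056, 34072, 34184, 34200, 34088, 34104, 34232, 34216, 36104, 36152, 35208, 35256, 36136, 36120, 35224, 35240]
  hGen := [[1, 7, 5, 8, 56, 40], [9, 45, 54, 8, 40, 48]]
  hWord := [[], [0, 1, 0, 0, 0, 1], [0, 1, 1, 0, 0], [0, 0, 0, 1, 1], [0, 0], [1, 0, 0, 0, 1, 0], [0, 1, 1], [0, 1, 0, 0, 1], [0, 1, 1, 1, 1], [1, 0, 0, 1, 0], [0, 0, 0, 1, 1, 0], [0, 1, 1, 0], [1, 1, 0], [0, 0, 1, 1, 0], [1, 1, 1, 1], [0, 0, 1, 1, 1, 1], [0, 0, 1, 1], [1, 1, 0, 0], [1, 0, 0, 0, 1], [0, 0, 0], [1, 0, 0, 1], [1, 1], [0, 0, 1, 0, 0, 0, 1], [0], [1, 1, 1], [1, 1, 0, 0, 1], [0, 0, 1, 0, 0, 0], [1, 0], [0, 0, 1, 1, 1], [1,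 0, 0, 1, 1], [0, 0, 1, 0], [1, 0, 0, 0], [0, 1], [0, 0, 0, 1], [1, 0, 0], [0, 0, 1, 0, 0], [0, 1, 0, 0], [0, 0, 0, 1, 0, 0], [1], [0, 0, 1], [0, 0, 0, 1, 0], [0, 1, 0, 0, 0], [0, 1, 0, 0, 1, 1], [0, 0, 0, 1, 1, 1], [0, 0, 0, 1, 0, 0, 0], [0, 1, 0], [0, 1, 1, 0, 0, 1], [0, 1, 1, 1]]
  hRel := [[0, 0, 0, 0], [1, 1, 1, 1, 1, 1], [0, 1, 0, 1], [0, 1, 1, 0, 0, 0, 1, 1, 0, 0]]
  glue := [[35232, 34232], [35233, 34232], [35238, 34237], [35239, 34237]]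

/-- The side of the second subgroup. -/
def sideB : Side where
  dec := decB
  cls := clsB
  zi := 16
  bs := [1, 2, 4, 8, 32]
  idx := [2, 4, 8, 16, 1, 32]
  hList := [[1, 2, 4, 8, 16, 32], [1, 2, 5, 10, 16, 32], [1, 2, 20, 40, 16, 32], [1, 2, 21, 42, 16, 32], [1, 3, 4, 12, 16, 48], [1, 3, 5, 15, 16, 48], [1, 3, 20, 60, 16, 48], [1, 3, 21, 63, 16, 48], [4, 8, 1, 2, 16, 32], [4, 8, 5, 10, 16, 32], [4, 8, 17, 34, 16, 32], [4, 8, 21, 42, 16, 32], [4, 12, 1, 3, 16, 48], [4, 12, 5, 15, 16, 48], [4, 12, 17, 51, 16, 48], [4, 12, 21, 63, 16, 48], [5, 10, 1, 2, 16, 32], [5, 10, 4, 8, 16, 32], [5, 10, 17, 34, 16, 32], [5, 10, 20, 40, 16, 32], [5, 15, 1, 3, 16, 48], [5, 15, 4, 12, 16, 48], [5, 15, 17, 51, 16, 48], [5, 15, 20, 60, 16, 48], [17, 34, 4, 8, 16, 32], [17, 34, 5, 10, 16, 32], [17, 34, 20, 40, 16, 32], [17, 34, 21, 42, 16, 32],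 [17, 51, 4, 12, 16, 48], [17, 51, 5, 15, 16, 48], [17, 51, 20, 60, 16, 48], [17, 51, 21, 63, 16, 48], [20, 40, 1, 2, 16, 32], [20, 40, 5, 10, 16, 32], [20, 40, 17, 34, 16, 32], [20, 40, 21, 42, 16, 32], [20, 60, 1, 3, 16, 48], [20, 60, 5, 15, 16, 48], [20, 60, 17, 51, 16, 48], [20, 60, 21, 63, 16, 48], [21, 42, 1, 2, 16, 32], [21, 42, 4, 8, 16, 32], [21, 42, 17, 34, 16, 32], [21, 42, 20, 40, 16, 32], [21, 63, 1, 3, 16, 48], [21, 63, 4, 12, 16, 48], [21, 63, 17, 51, 16, 48], [21, 63, 20, 60, 16, 48]]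
  pWit := [34944, 51328, 34948, 51332, 34960, 51344, 34964, 51348, 20608, 22656, 20612, 22660, 20624, 22672, 20628, 22676, 53376, 39040, 53380, 39044, 53392, 39056, 53396, 39060, 34952, 51336, 34956, 51340, 34968, 51352, 34972, 51356, 20616, 22664, 20620, 22668, 20632, 22680, 20636, 22684, 53384, 39048, 53388, 39052, 53400, 39064, 53404, 39068]
  hGen := [[4, 8, 17, 34, 16, 32], [20, 60, 5, 15, 16, 48]]
  hWord := [[], [0, 0, 1, 1, 0], [1, 0, 0, 0, 1, 0], [0, 1, 1, 1, 1], [1, 1, 1], [0, 0, 0, 1, 0, 0], [1, 0, 0, 1, 1], [0, 1], [1, 0, 0, 0, 1], [0, 0, 1, 1, 1, 1], [0], [0, 0, 0, 1, 1, 0], [0, 1, 0, 0, 1, 1], [0, 0, 1], [0, 1, 1, 1], [1, 0, 0], [1, 1, 0, 0], [0, 0, 0, 1, 1], [1, 0, 0, 1], [0, 1, 1], [0, 1, 0, 0, 0], [1, 0], [0, 0, 0, 1, 0, 0, 0], [0, 0, 1, 0], [0, 1, 0, 0, 0, 1], [1, 1, 0], [0, 0], [1, 0, 0, 1, 0], [1, 1, 0, 0, 1],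 [0, 1, 0, 0], [0, 0, 1, 1, 1], [0, 0, 0, 1], [0, 0, 0], [1, 1, 1, 1], [0, 0, 1, 0, 0, 0, 1], [0, 1, 1, 0], [0, 0, 0, 1, 1, 1], [1], [0, 1, 1, 0, 0, 1], [0, 0, 1, 0, 0], [0, 0, 1, 1], [0, 1, 1, 0, 0], [1, 1], [0, 1, 0, 0, 1], [0, 0, 0, 1, 0], [0, 0, 1, 0, 0, 0], [0, 1, 0], [1, 0, 0, 0]]
  hRel := [[0, 0, 0, 0], [1, 1, 1, 1, 1, 1], [0, 1, 0, 1], [0, 0, 1, 1, 0, 0, 0, 1, 1, 0]]
  glue := [[20612, 22680], [20676, 22713], [20613, 22680], [20677, 22713]]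

/-- Only the two classes of transvection type in `O₂`, one of them. -/
def sFive : ℕ → Bool := chosen false false false true false
/-- The classes fused in `SL(5, 2)`. -/
def sLFive : ℕ → Bool := chosen true true false true false
/-- The classes fused in the Mathieu group. -/
def sM24 : ℕ → Bool := chosen true true true true false
/-- The classes fused in the Held group. -/
def sHe : ℕ → Bool := chosen true true true true true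

end Cfsg.Lib.HeldType
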